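import Groth.Agent.KFlat.Hom
import Groth.Agent.KFlat.PullTensor
import Groth.Agent.KFlat.StalkCx
import Groth.Agent.KFlat.LocalD
import Groth.Agent.KFlat.Tensor
import Groth.Agent.ModFlat.Assoc
import Groth.Agent.Props.KilledSub
import Groth.Agent.ModShf.Flasque

/-!
# Change of rings along a closed immersion

For a closed immersion `ι : X ⟶ P` and `E` on `X`, `T ι E : P.Modules ⥤ X.Modules` is the right adjoint
of `F ↦ ι_*(F ⊗ E)`.  We prove the projection formula `K ⊗ ι_* E ≅ ι_* (ι^* K ⊗ E)` and deduce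
`ι_* ∘ T ι E ≅ ℋom(ι_* E, -)`.
-/

set_option autoImplicit false

universe u

open CategoryTheory Limits AlgebraicGeometry MonoidalCategory
open Groth.Agent.KFlat.StalkTensor

noncomputable section

namespace Groth.Agent.ChgRings

open Groth.Agent.PullStalk.Sky

variable {X P : Scheme.{u}} (ι : X ⟶ P)

/-- `F ↦ F ⊗ E` -/
abbrev tensR (E : X.Modules) : X.Modules ⥤ X.Modules := (ModSite.tensorBi X.sheaf).flip.obj E

/-- `F ↦ ι_*(F ⊗ E)` -/
abbrev pushTens (E : X.Modules) : X.Modules ⥤ P.Modules :=
  tensR E ⋙ Scheme.Modules.pushforward ι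

variable [IsClosedImmersion ι]

instance pushIsLeftAdjoint : (Scheme.Modules.pushforward ι).IsLeftAdjoint :=
  Props.KilledSub.isLeftAdjoint ι

instance pushPreservesFiniteColimits : PreservesFiniteColimits (Scheme.Modules.pushforward ι) :=
  ⟨fun K _ _ ↦ ((Adjunction.ofIsLeftAdjoint
    (Scheme.Modules.pushforward ι)).leftAdjoint_preservesColimits.preservesColimitsOfShape :
      PreservesColimitsOfShape K (Scheme.Modules.pushforward ι))⟩

lemma isLeftAdjoint_pushTens (E : X.Modules) : (pushTens ι E).IsLeftAdjoint :=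
  have : (tensR E).IsLeftAdjoint := KFlat.hasSheafHom X.sheaf E
  Functor.isLeftAdjoint_comp (tensR E) (Scheme.Modules.pushforward ι)

instance (E : X.Modules) : (pushTens ι E).IsLeftAdjoint := isLeftAdjoint_pushTens ι E

/-- the right adjoint of `F ↦ ι_*(F ⊗ E)` -/
abbrev T (E : X.Modules) : P.Modules ⥤ X.Modules := (pushTens ι E).rightAdjoint

/-- the adjunction -/
abbrev adjT (E : X.Modules) : pushTens ι E ⊣ T ι E := Adjunction.ofIsLeftAdjoint _

instance pushTens_additive (E : X.Modules) : (pushTens ι E).Additive :=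
  have : (tensR E).Additive := KFlat.additive_tensorBi_flip E
  inferInstanceAs (tensR E ⋙ Scheme.Modules.pushforward ι).Additive

instance T_additive (E : X.Modules) : (T ι E).Additive := (adjT ι E).right_adjoint_additive

omit [IsClosedImmersion ι] in
/-- tensoring with a flat module preserves monomorphisms -/
lemma mono_tensR_map {E : X.Modules} (hE : FlatMod.IsFinLocFree E) {A B : X.Modules} (f : A ⟶ B)
    [Mono f] : Mono ((tensR E).map f) := by
  refine KFlat.StalkTensor.mono_of_stalk_injective _ fun y ↦ ?_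
  have : Module.Flat (X.presheaf.stalk y) ((DerSch.stalkFunctor X y).obj E) :=
    KFlat.LocalD.flat_of_isFinLocFree hE y
  have h := KFlat.StalkCx.stIso_left y f E
  have hinj : Function.Injective
      (((DerSch.stalkFunctor X y).map f ▷ (DerSch.stalkFunctor X y).obj E :
        (DerSch.stalkFunctor X y).obj A ⊗ (DerSch.stalkFunctor X y).obj E ⟶ _)).hom :=
    Module.Flat.rTensor_preserves_injective_linearMap (M := ((DerSch.stalkFunctor X y).obj E)) _
      (KFlat.StalkTensor.stalk_map_injective y f)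
  intro a b hab
  have ha := LinearMap.congr_fun (congrArg ModuleCat.Hom.hom h) a
  have hb := LinearMap.congr_fun (congrArg ModuleCat.Hom.hom h) b
  refine (KFlat.StalkCx.stIso y A E).toLinearEquiv.injective (hinj ?_)
  exact ha.symm.trans ((congrArg (KFlat.StalkCx.stIso y B E).hom.hom hab).trans hb)

lemma preservesMonomorphisms_pushTens {E : X.Modules} (hE : FlatMod.IsFinLocFree E) :
    (pushTens ι E).PreservesMonomorphisms :=
  ⟨fun f _ ↦ by
    have := mono_tensR_map hE f
    exact inferInstanceAs (Mono ((Scheme.Modules.pushforward ι).map ((tensR E).map f)))⟩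

lemma injective_T {E : X.Modules} (hE : FlatMod.IsFinLocFree E) (Q : P.Modules) (hQ : Injective Q) :
    Injective ((T ι E).obj Q) :=
  have := preservesMonomorphisms_pushTens ι hE
  (adjT ι E).map_injective Q hQ

lemma assocApp_natural_left {C : Type u} [SmallCategory C] {J : GrothendieckTopology C}
    {O : Sheaf J CommRingCat.{u}} {A A' : ModSite.Mod O} (φ : A ⟶ A') (F E : ModSite.Mod O) :
    ((ModSite.tensorBi O).map (((ModSite.tensorBi O).map φ).app F)).app E ≫
        (ModFlat.assocApp A' F E).hom =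
      (ModFlat.assocApp A F E).hom ≫ ((ModSite.tensorBi O).map φ).app _ := by
  simpa using ModFlat.assocApp_natural φ (𝟙 F) (𝟙 E)

/-! ### projection formula -/

lemma smul_tensor_eq_zero {x : P} (r : P.presheaf.stalk x) (K N : P.Modules)
    (h : ∀ t : N.presheaf.stalk x, r • t = 0) (z : (tensM K N).presheaf.stalk x) : r • z = 0 := by
  obtain ⟨w, rfl⟩ := (stalkTensorEquiv K N x).symm.surjective z
  induction w using TensorProduct.induction_on with
  | zero => rw [map_zero, smul_zero]
  | tmul s t => rw [← map_smul, ← TensorProduct.tmul_smul, h t, TensorProduct.tmul_zero, map_zero]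
  | add a b ha hb => rw [map_add, smul_add, ha, hb, add_zero]

lemma isIso_unit_tensor (E : X.Modules) (K : P.Modules) :
    IsIso ((Scheme.Modules.pullbackPushforwardAdjunction ι).unit.app
      (tensM K ((Scheme.Modules.pushforward ι).obj E))) := by
  obtain ⟨h₁, h₂⟩ := (ClUnit.isIso_unit_iff_stalk ι ((Scheme.Modules.pushforward ι).obj E)).1
    (Props.KilledSub.isIso_unit_push ι E)
  refine (ClUnit.isIso_unit_iff_stalk ι _).2 ⟨fun z r hr ↦ smul_tensor_eq_zero r _ _ (h₁ z r hr),
    fun x hx ↦ subsingleton_of_forall_eq 0 fun t ↦ ?_⟩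
  rw [← one_smul (P.presheaf.stalk x) t]
  exact smul_tensor_eq_zero 1 _ _ (fun s ↦ @Subsingleton.elim _ (h₂ x hx) _ _) t

/-- `ι^*(K ⊗ ι_* E) ≅ ι^* K ⊗ E` -/
def pullTensPushIso (E : X.Modules) :
    (ModSite.tensorBi P.sheaf).flip.obj ((Scheme.Modules.pushforward ι).obj E) ⋙
        Scheme.Modules.pullback ι ≅ Scheme.Modules.pullback ι ⋙ tensR E :=
  NatIso.ofComponents
    (fun K ↦ KFlat.PullTensor.pullTensorIso ι K ((Scheme.Modules.pushforward ι).obj E) ≪≫
      ((ModSite.tensorBi X.sheaf).obj ((Scheme.Modules.pullback ι).obj K)).mapIso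
        (@asIso _ _ _ _ _ (Props.KilledSub.isIso_counit ι E)))
    fun {K K'} φ ↦ by
      have h := KFlat.PullTensor.pullTensorIso_left ι φ ((Scheme.Modules.pushforward ι).obj E)
      have h2 := ((ModSite.tensorBi X.sheaf).map ((Scheme.Modules.pullback ι).map φ)).naturality
        ((Scheme.Modules.pullbackPushforwardAdjunction ι).counit.app E)
      change (Scheme.Modules.pullback ι).map _ ≫ (KFlat.PullTensor.pullTensorIso ι K' _).hom ≫ _ =
        ((KFlat.PullTensor.pullTensorIso ι K _).hom ≫ _) ≫ _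
      refine (Category.assoc _ _ _).symm.trans ?_
      refine (congrArg (· ≫ _) h).trans ?_
      refine (Category.assoc _ _ _).trans ?_
      refine Eq.trans ?_ (Category.assoc _ _ _).symm
      exact congrArg ((KFlat.PullTensor.pullTensorIso ι K _).hom ≫ ·) h2.symm

/-- the projection formula `K ⊗ ι_* E ≅ ι_*(ι^* K ⊗ E)` -/
def projIso (E : X.Modules) :
    (ModSite.tensorBi P.sheaf).flip.obj ((Scheme.Modules.pushforward ι).obj E) ≅
      Scheme.Modules.pullback ι ⋙ pushTens ι E :=
  NatIso.ofComponents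
    (fun K ↦
      @asIso _ _ _ _ _ (isIso_unit_tensor ι E K) ≪≫
        (Scheme.Modules.pushforward ι).mapIso ((pullTensPushIso ι E).app K))
    fun {K K'} φ ↦ by
      have h1 := (Scheme.Modules.pullbackPushforwardAdjunction ι).unit.naturality
        (((ModSite.tensorBi P.sheaf).flip.obj ((Scheme.Modules.pushforward ι).obj E)).map φ)
      have h2 := congrArg (Scheme.Modules.pushforward ι).map ((pullTensPushIso ι E).hom.naturality φ)
      rw [Functor.map_comp, Functor.map_comp] at h2
      refine (Category.assoc _ _ _).symm.trans ?_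
      refine (congrArg (· ≫ _) h1).trans ?_
      refine (Category.assoc _ _ _).trans ?_
      refine Eq.trans ?_ (Category.assoc _ _ _).symm
      exact congrArg (_ ≫ ·) h2

/-- `ι_* ∘ T ≅ ℋom(ι_* E, -)` -/
def pushTIso (E : X.Modules)
    [ModSite.HasSheafHom (O := P.sheaf) ((Scheme.Modules.pushforward ι).obj E)] :
    T ι E ⋙ Scheme.Modules.pushforward ι ≅
      ModSite.sheafHom (O := P.sheaf) ((Scheme.Modules.pushforward ι).obj E) :=
  conjugateIsoEquiv ((Scheme.Modules.pullbackPushforwardAdjunction ι).comp (adjT ι E))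
    (ModSite.sheafHomAdj (O := P.sheaf) ((Scheme.Modules.pushforward ι).obj E)) (projIso ι E)

omit [IsClosedImmersion ι] in
/-- `(A ⊗ F) ⊗ E ≅ A ⊗ (F ⊗ E)`, naturally in `A` -/
def tensRComp (E F : X.Modules) : tensR F ⋙ tensR E ≅ tensR (tensM F E) :=
  NatIso.ofComponents (fun A ↦ ModFlat.assocApp A F E) fun φ ↦ assocApp_natural_left φ F E

omit [IsClosedImmersion ι] in
/-- `A ⊗ B ≅ B ⊗ A` -/
def commIso (A B : X.Modules) : tensM A B ≅ tensM B A :=
  (ModSite.shPre X.sheaf).mapIso (β_ ((ModSite.toPre X.sheaf).obj A) ((ModSite.toPre X.sheaf).obj B))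

/-- `T ⋙ ℋom(F, -) ⋙ ι_* ≅ ℋom(ι_*(F ⊗ E), -)` -/
def compSheafHomIso (E F : X.Modules) [ModSite.HasSheafHom (O := X.sheaf) F]
    [ModSite.HasSheafHom (O := P.sheaf) ((Scheme.Modules.pushforward ι).obj (tensM F E))] :
    T ι E ⋙ ModSite.sheafHom (O := X.sheaf) F ⋙ Scheme.Modules.pushforward ι ≅
      ModSite.sheafHom (O := P.sheaf) ((Scheme.Modules.pushforward ι).obj (tensM F E)) :=
  conjugateIsoEquiv (((Scheme.Modules.pullbackPushforwardAdjunction ι).comp
      (ModSite.sheafHomAdj (O := X.sheaf) F)).comp (adjT ι E))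
    (ModSite.sheafHomAdj (O := P.sheaf) ((Scheme.Modules.pushforward ι).obj (tensM F E)))
    (projIso ι (tensM F E) ≪≫
      Functor.isoWhiskerLeft (Scheme.Modules.pullback ι)
        (Functor.isoWhiskerRight (tensRComp E F).symm (Scheme.Modules.pushforward ι)) :)

end Groth.Agent.ChgRings

end
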