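import Groth.Agent.ChgRings.Basic
import Groth.Agent.ExtSuppLib.Main

/-!
# Derived functors of the change of rings functor
-/

set_option autoImplicit false

universe u

open CategoryTheory Limits AlgebraicGeometry
open Groth.Agent.KFlat.StalkTensor

noncomputable section

namespace Groth.Agent.ChgRings

variable {X P : Scheme.{u}}

instance sheafHom_additive {C : Type u} [SmallCategory C] {J : GrothendieckTopology C}
    {O : Sheaf J CommRingCat.{u}} (M : ModSite.Mod O) [ModSite.HasSheafHom M] :
    (ModSite.sheafHom M).Additive :=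
  (ModSite.sheafHomAdj M).right_adjoint_additive

instance sheafHom_additive' (M : P.Modules) [ModSite.HasSheafHom (O := P.sheaf) M] :
    @Functor.Additive P.Modules P.Modules Scheme.Modules.instCategory Scheme.Modules.instCategory
      Scheme.Modules.instAbelian.toPreadditive Scheme.Modules.instAbelian.toPreadditive
      (ModSite.sheafHom (O := P.sheaf) M) :=
  sheafHom_additive (O := P.sheaf) M

variable (ι : X ⟶ P) [IsClosedImmersion ι]

variable [HasInjectiveResolutions (ModSite.Mod P.sheaf)]

/-- `ι_* R^q T ≅ ℰxt^q(ι_* E, -)` -/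
def pushDerivedTIso (E : X.Modules)
    [ModSite.HasSheafHom (O := P.sheaf) ((Scheme.Modules.pushforward ι).obj E)] (q : ℕ) :
    (T ι E).rightDerived q ⋙ Scheme.Modules.pushforward ι ≅
      ModSite.extSh (O := P.sheaf) ((Scheme.Modules.pushforward ι).obj E) q :=
  have : (ModSite.sheafHom (O := P.sheaf) ((Scheme.Modules.pushforward ι).obj E)).Additive :=
    sheafHom_additive _
  (ModShf.rightDerivedCompIso (T ι E) (Scheme.Modules.pushforward ι) q).symm ≪≫
    ExtSuppLib.rightDerivedMapIso (pushTIso ι E) q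

/-- a module whose direct image is the Ext sheaf is the derived functor of `T` -/
lemma nonempty_derivedT_iso {E : X.Modules} {G : P.Modules}
    [ModSite.HasSheafHom (O := P.sheaf) ((Scheme.Modules.pushforward ι).obj E)] (q : ℕ)
    {M : X.Modules} (hM : Nonempty ((Scheme.Modules.pushforward ι).obj M ≅
      (ModSite.extSh (O := P.sheaf) ((Scheme.Modules.pushforward ι).obj E) q).obj G)) :
    Nonempty (((T ι E).rightDerived q).obj G ≅ M) :=
  ⟨(Props.KilledSub.fullyFaithful ι).preimageIso
    ((pushDerivedTIso ι E q).app G ≪≫ hM.some.symm)⟩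

omit [IsClosedImmersion ι] [HasInjectiveResolutions (ModSite.Mod P.sheaf)] in
/-- internal hom along an isomorphism -/
def sheafHomCongr {A B : P.Modules} (e : A ≅ B) [ModSite.HasSheafHom (O := P.sheaf) A]
    [ModSite.HasSheafHom (O := P.sheaf) B] :
    ModSite.sheafHom (O := P.sheaf) A ≅ ModSite.sheafHom (O := P.sheaf) B :=
  conjugateIsoEquiv (ModSite.sheafHomAdj (O := P.sheaf) A) (ModSite.sheafHomAdj (O := P.sheaf) B)
    ((ModSite.tensorBi P.sheaf).flip.mapIso e).symm

/-- `R^n(T ⋙ ℋom(F, -) ⋙ ι_*) ≅ ℰxt^n(ι_*(E ⊗ F), -)` -/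
def derivedCompIso (E F : X.Modules) [ModSite.HasSheafHom (O := X.sheaf) F]
    [ModSite.HasSheafHom (O := P.sheaf) ((Scheme.Modules.pushforward ι).obj (CohB1.tensorMod E F))]
    [(T ι E ⋙ ModSite.sheafHom (O := X.sheaf) F ⋙ Scheme.Modules.pushforward ι).Additive] (n : ℕ) :
    (T ι E ⋙ ModSite.sheafHom (O := X.sheaf) F ⋙ Scheme.Modules.pushforward ι).rightDerived n ≅
      ModSite.extSh (O := P.sheaf) ((Scheme.Modules.pushforward ι).obj (CohB1.tensorMod E F)) n :=
  have : ModSite.HasSheafHom (O := P.sheaf) ((Scheme.Modules.pushforward ι).obj (tensM F E)) :=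
    KFlat.hasSheafHom _ _
  have : ModSite.HasSheafHom (O := P.sheaf) ((Scheme.Modules.pushforward ι).obj (tensM E F)) :=
    KFlat.hasSheafHom _ _
  have : (ModSite.sheafHom (O := P.sheaf) ((Scheme.Modules.pushforward ι).obj (tensM E F))).Additive :=
    sheafHom_additive _
  ExtSuppLib.rightDerivedMapIso (compSheafHomIso ι E F ≪≫
    sheafHomCongr ((Scheme.Modules.pushforward ι).mapIso (commIso F E))) n

/-- `T ⋙ Hom(F, -) ≅ Hom(ι_*(E ⊗ F), -)` -/
def compHomIso (E F : X.Modules) :
    T ι E ⋙ preadditiveCoyoneda.obj (Opposite.op F) ≅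
      preadditiveCoyoneda.obj (Opposite.op ((Scheme.Modules.pushforward ι).obj (CohB1.tensorMod E F))) :=
  NatIso.ofComponents
    (fun N ↦ ((adjT ι E).homAddEquiv F N).symm.toAddCommGrpIso ≪≫
      (preadditiveYoneda.obj N).mapIso ((Scheme.Modules.pushforward ι).mapIso (commIso F E)).op.symm)
    fun {N N'} φ ↦ by
      ext (x : F ⟶ (T ι E).obj N)
      change ((Scheme.Modules.pushforward ι).mapIso (commIso F E)).inv ≫
          ((adjT ι E).homEquiv F N').symm (x ≫ (T ι E).map φ) =
        (((Scheme.Modules.pushforward ι).mapIso (commIso F E)).inv ≫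
          ((adjT ι E).homEquiv F N).symm x) ≫ φ
      rw [Adjunction.homEquiv_naturality_right_symm, Category.assoc]

end Groth.Agent.ChgRings

end
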